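import Mathlib
import Groth.Prelude.Def_CAlg
import Groth.Agent.Lib.Helper4.CM
import Groth.Agent.Lib.Helper26.RegQuotLoc

/-!
# Algebra for iterated slicing of groupoids (helper14)
-/

set_option autoImplicit false
universe u

open IsLocalRing

namespace Groth.Agent.Lib.Helper14.MaxSlice

variable {A C : Type u} [CommRing A] [CommRing C] [IsLocalRing C]

/-- **prime avoidance on a Cohen–Macaulay quotient**, general ideal version. -/
theorem exists_regular_or_prime' (I : Ideal C) (m : Ideal A) (ψ : A →+* C)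
    (hcm : LocCoh.IsCohenMacaulayLocalRing (C ⧸ I)) :
    (∃ f ∈ m, ∀ w : C, ψ f * w ∈ I → w ∈ I) ∨
    (∃ 𝔓 : Ideal C, 𝔓.IsPrime ∧ I ≤ 𝔓 ∧ m.map ψ ≤ 𝔓 ∧
      ringKrullDim (C ⧸ 𝔓) = ringKrullDim (C ⧸ I)) := by
  classical
  set O := C ⧸ I with hO
  haveI := hcm
  haveI : IsNoetherianRing O := inferInstanceAs (IsNoetherianRing (C ⧸ I))
  haveI : IsLocalRing O := inferInstanceAs (IsLocalRing (C ⧸ I))
  by_cases h : ∃ f ∈ m, ∀ w : C, ψ f * w ∈ I → w ∈ I
  · exact Or.inl h
  right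
  push Not at h
  let τ : A →+* O := (Ideal.Quotient.mk I).comp ψ
  have hfin : (associatedPrimes O O).Finite := associatedPrimes.finite O O
  have hzd : ∀ f ∈ m, τ f ∈ ⋃ p ∈ associatedPrimes O O, (p : Set O) := by
    intro f hf
    obtain ⟨w, hw1, hw2⟩ := h f hf
    rw [biUnion_associatedPrimes_eq_zero_divisors]
    refine ⟨Ideal.Quotient.mk I w, ?_, ?_⟩
    · intro h0
      exact hw2 (Ideal.Quotient.eq_zero_iff_mem.mp h0)
    · show τ f * Ideal.Quotient.mk I w = 0
      rw [show τ f = Ideal.Quotient.mk I (ψ f) from rfl, ← map_mul]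
      exact Ideal.Quotient.eq_zero_iff_mem.mpr hw1
  have hsub : (m : Set A) ⊆ ⋃ p ∈ ((hfin.toFinset : Finset (Ideal O)) : Set (Ideal O)),
      ((fun p : Ideal O => p.comap τ) p : Set A) := by
    intro f hf
    have := hzd f hf
    simp only [Set.mem_iUnion, SetLike.mem_coe, exists_prop] at this ⊢
    obtain ⟨p, hp, hfp⟩ := this
    exact ⟨p, by simpa using hp, hfp⟩
  have hne : (associatedPrimes O O).Nonempty := associatedPrimes.nonempty O O
  obtain ⟨p₀, hp₀⟩ := hne
  rw [Ideal.subset_union_prime p₀ p₀ (fun i hi _ _ => by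
    have : i ∈ associatedPrimes O O := by simpa using hi
    haveI := this.isPrime
    exact Ideal.comap_isPrime τ i)] at hsub
  obtain ⟨𝔭, h𝔭, hm𝔭⟩ := hsub
  have h𝔭ass : 𝔭 ∈ associatedPrimes O O := by simpa using h𝔭
  haveI h𝔭prime : 𝔭.IsPrime := h𝔭ass.isPrime
  refine ⟨𝔭.comap (Ideal.Quotient.mk I), Ideal.comap_isPrime _ _, ?_, ?_, ?_⟩
  · intro c hc
    rw [Ideal.mem_comap, Ideal.Quotient.eq_zero_iff_mem.mpr hc]
    exact 𝔭.zero_mem
  · rw [Ideal.map_le_iff_le_comap]
    intro a ha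
    exact hm𝔭 ha
  · have hcmM : LocCoh.IsCohenMacaulayModule O O := hcm.supportDim_eq_depth
    have h1 := Groth.Agent.Lib.Helper4.cm_ringKrullDim_quotient_eq hcmM h𝔭ass
    rw [Module.supportDim_self_eq_ringKrullDim] at h1
    rw [← h1]
    let g : C →+* O ⧸ 𝔭 := (Ideal.Quotient.mk 𝔭).comp (Ideal.Quotient.mk I)
    have hg : Function.Surjective g :=
      Ideal.Quotient.mk_surjective.comp Ideal.Quotient.mk_surjective
    have hker : RingHom.ker g = 𝔭.comap (Ideal.Quotient.mk I) := by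
      ext c
      rw [RingHom.mem_ker, Ideal.mem_comap]
      exact Ideal.Quotient.eq_zero_iff_mem
    have e := RingHom.quotientKerEquivOfSurjective hg
    exact ringKrullDim_eq_of_ringEquiv ((Ideal.quotEquivOfEq hker.symm).trans e)

end Groth.Agent.Lib.Helper14.MaxSlice
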