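import Groth.Agent.Lib.Helper14.GrpdCM
import Groth.Agent.Lib.Helper14.CMAffineFlat
import Groth.Agent.Lib.Helper12.Equidim
import Groth.Agent.S9766
import Groth.Agent.S9767

/-!
# Transport of "Cohen–Macaulay at a point" and of the fibre dimension along open immersions
(helper14)
-/

set_option autoImplicit false
set_option linter.style.haveILetI false
universe u

open CategoryTheory CategoryTheory.Limits AlgebraicGeometry

namespace Groth.Agent.Lib.Helper14.MaxSlice

open Groth.Agent.Lib.Helper14.GrpdCM

theorem grpd_isCMAt_comp_openImmersion_iff {W P Y : Scheme.{u}} (j : W ⟶ P) [IsOpenImmersion j]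
    (k : P ⟶ Y) [LocallyOfFiniteType k] (w : W) :
    Grpd.IsCMAt (j ≫ k) w ↔ Grpd.IsCMAt k (j w) := by
  rw [grpd_isCMAt_iff, grpd_isCMAt_iff]
  haveI : LocallyOfFiniteType (j.fiberToSpecResidueField (j w)) := by
    change LocallyOfFiniteType (pullback.snd j (P.fromSpecResidueField (j w)))
    infer_instance
  have hNf : IsLocallyNoetherian (j.fiber (j w)) :=
    LocallyOfFiniteType.isLocallyNoetherian (j.fiberToSpecResidueField (j w))
  haveI : LocallyOfFiniteType (k.fiberToSpecResidueField (k (j w))) := by
    change LocallyOfFiniteType (pullback.snd k (Y.fromSpecResidueField (k (j w))))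
    infer_instance
  have hNg : IsLocallyNoetherian (k.fiber (k (j w))) :=
    LocallyOfFiniteType.isLocallyNoetherian (k.fiberToSpecResidueField (k (j w)))
  haveI : LocallyOfFiniteType ((j ≫ k).fiberToSpecResidueField (k (j w))) := by
    change LocallyOfFiniteType (pullback.snd (j ≫ k) (Y.fromSpecResidueField (k (j w))))
    infer_instance
  have hN : IsLocallyNoetherian ((j ≫ k).fiber (k (j w))) :=
    LocallyOfFiniteType.isLocallyNoetherian ((j ≫ k).fiberToSpecResidueField (k (j w)))
  constructor
  · intro h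
    exact (Groth.Agent.S9767.result j k w hNf hNg h (Flat.stalkMap j w)).2
  · intro h
    exact Groth.Agent.S9766.result j k w hN
      (Groth.Agent.Lib.Helper14.CMAffineMap.isCMAt_of_isOpenImmersion j w) h

/-- transport along an open immersion `ω` with `k'' = ω ≫ k`. -/
theorem transport_openImmersion {P'' P Y : Scheme.{u}} (ω : P'' ⟶ P) [IsOpenImmersion ω]
    (k : P ⟶ Y) [LocallyOfFiniteType k] (k'' : P'' ⟶ Y) (hk : k'' = ω ≫ k) (q : P'') :
    (Grpd.IsCMAt k'' q ↔ Grpd.IsCMAt k (ω q)) ∧
      FlatMor.fibreDimAt k'' q = FlatMor.fibreDimAt k (ω q) := by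
  subst hk
  exact ⟨grpd_isCMAt_comp_openImmersion_iff ω k q,
    Groth.Agent.Lib.Helper12.Equidim.fibreDimAt_comp_openImmersion ω k q⟩

end Groth.Agent.Lib.Helper14.MaxSlice
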