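import Groth.Agent.Lib.Helper11.GrpdLib
import Groth.Agent.Lib.Helper14.CMBaseChange
import Groth.Agent.Lib.Helper14.MaxSlice.Transport

/-!
# Source and target of the restriction of a groupoid scheme (helper14)

For `g : Z ⟶ U` put `h = s ∘ pr₂ : Z ×_{g,U,t} R ⟶ U` and `R' = (Z ×_{g,U,t} R) ×_{h,U,g} Z`.
The inverse of the groupoid induces an involution of `R'` exchanging the source
`s' = pr₂ : R' ⟶ Z` and the target `t' = pr₁ ∘ pr₁ : R' ⟶ Z`.
-/

set_option autoImplicit false
set_option linter.style.haveILetI false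
universe u

open CategoryTheory CategoryTheory.Limits AlgebraicGeometry

namespace Groth.Agent.Lib.Helper14.MaxSlice

open Groth.Agent.Lib.Helper11.GrpdLib Groth.Agent.Lib.Helper14.GrpdCM

variable {S : Scheme.{u}} (G : Grpd.GroupoidScheme S) {Z : Scheme.{u}} (g : Z ⟶ G.U)

/-- the inner component of the involution. -/
noncomputable def invInner :
    pullback (pullback.snd g G.t ≫ G.s) g ⟶ pullback g G.t :=
  pullback.lift (pullback.snd (pullback.snd g G.t ≫ G.s) g)
    (pullback.fst (pullback.snd g G.t ≫ G.s) g ≫ pullback.snd g G.t ≫ G.i) (by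
      rw [Category.assoc, Category.assoc, G.i_t, ← pullback.condition])

theorem invInner_fst : invInner G g ≫ pullback.fst g G.t =
    pullback.snd (pullback.snd g G.t ≫ G.s) g := pullback.lift_fst _ _ _

theorem invInner_snd : invInner G g ≫ pullback.snd g G.t =
    pullback.fst (pullback.snd g G.t ≫ G.s) g ≫ pullback.snd g G.t ≫ G.i :=
  pullback.lift_snd _ _ _

/-- the involution of the arrows of the restricted groupoid. -/
noncomputable def invR :
    pullback (pullback.snd g G.t ≫ G.s) g ⟶ pullback (pullback.snd g G.t ≫ G.s) g :=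
  pullback.lift (invInner G g) (pullback.fst (pullback.snd g G.t ≫ G.s) g ≫ pullback.fst g G.t)
    (by
      rw [← Category.assoc, invInner_snd, Category.assoc, Category.assoc, G.i_s, Category.assoc,
        pullback.condition])

theorem invR_fst : invR G g ≫ pullback.fst (pullback.snd g G.t ≫ G.s) g = invInner G g :=
  pullback.lift_fst _ _ _

theorem invR_snd : invR G g ≫ pullback.snd (pullback.snd g G.t ≫ G.s) g =
    pullback.fst (pullback.snd g G.t ≫ G.s) g ≫ pullback.fst g G.t := pullback.lift_snd _ _ _

theorem invR_invR : invR G g ≫ invR G g = 𝟙 _ := by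
  apply pullback.hom_ext
  · rw [Category.assoc, invR_fst, Category.id_comp]
    apply pullback.hom_ext
    · rw [Category.assoc, invInner_fst, invR_snd]
    · rw [Category.assoc, invInner_snd, ← Category.assoc, invR_fst, ← Category.assoc,
        invInner_snd, Category.assoc, Category.assoc, i_i, Category.comp_id]
  · rw [Category.assoc, invR_snd, ← Category.assoc, invR_fst, invInner_fst, Category.id_comp]

instance : IsIso (invR G g) := ⟨⟨invR G g, invR_invR G g, invR_invR G g⟩⟩

/-- properties stable under base change pass from `h` to the source and target of the restricted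
groupoid. -/
theorem restrict_prop (P : MorphismProperty Scheme.{u}) [P.IsStableUnderBaseChange]
    (hP : P (pullback.snd g G.t ≫ G.s)) :
    P (pullback.snd (pullback.snd g G.t ≫ G.s) g) ∧
      P (pullback.fst (pullback.snd g G.t ≫ G.s) g ≫ pullback.fst g G.t) := by
  have h1 : P (pullback.snd (pullback.snd g G.t ≫ G.s) g) :=
    MorphismProperty.pullback_snd _ _ hP
  refine ⟨h1, ?_⟩
  rw [← invR_snd]
  exact MorphismProperty.RespectsIso.precomp P (invR G g) _ h1

/-- the source and target of the restricted groupoid are Cohen–Macaulay if `h` is. -/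
theorem restrict_isCMAt [LocallyOfFiniteType (pullback.snd g G.t ≫ G.s)]
    (hcm : ∀ q, Grpd.IsCMAt (pullback.snd g G.t ≫ G.s) q) :
    (∀ q, Grpd.IsCMAt (pullback.snd (pullback.snd g G.t ≫ G.s) g) q) ∧
      ∀ q, Grpd.IsCMAt (pullback.fst (pullback.snd g G.t ≫ G.s) g ≫ pullback.fst g G.t) q := by
  have h1 : ∀ q, Grpd.IsCMAt (pullback.snd (pullback.snd g G.t ≫ G.s) g) q := by
    intro q
    rw [grpd_isCMAt_iff]
    have hc : IsPullback (pullback.fst (pullback.snd g G.t ≫ G.s) g)
        (pullback.snd (pullback.snd g G.t ≫ G.s) g) (pullback.snd g G.t ≫ G.s) g :=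
      IsPullback.of_hasPullback _ _
    haveI : LocallyOfFiniteType ((pullback.snd g G.t ≫ G.s).fiberToSpecResidueField
        (g (pullback.snd (pullback.snd g G.t ≫ G.s) g q))) := by
      change LocallyOfFiniteType (pullback.snd (pullback.snd g G.t ≫ G.s)
        (G.U.fromSpecResidueField (g (pullback.snd (pullback.snd g G.t ≫ G.s) g q))))
      infer_instance
    haveI hN : IsLocallyNoetherian ((pullback.snd g G.t ≫ G.s).fiber
        (g (pullback.snd (pullback.snd g G.t ≫ G.s) g q))) :=
      LocallyOfFiniteType.isLocallyNoetherian ((pullback.snd g G.t ≫ G.s).fiberToSpecResidueField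
        (g (pullback.snd (pullback.snd g G.t ≫ G.s) g q)))
    exact Groth.Agent.Lib.Helper14.CMBaseChange.isCMAt_baseChange hc q (Or.inr inferInstance)
      ((grpd_isCMAt_iff _ _).mp (hcm _))
  refine ⟨h1, fun q => ?_⟩
  haveI : LocallyOfFiniteType (pullback.snd (pullback.snd g G.t ≫ G.s) g) :=
    MorphismProperty.pullback_snd _ _ inferInstance
  have h2 := (grpd_isCMAt_comp_openImmersion_iff (invR G g)
    (pullback.snd (pullback.snd g G.t ≫ G.s) g) q).mpr (h1 _)
  have h3 : invR G g ≫ pullback.snd (pullback.snd g G.t ≫ G.s) g =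
      pullback.fst (pullback.snd g G.t ≫ G.s) g ≫ pullback.fst g G.t := invR_snd G g
  rw [grpd_isCMAt_iff] at h2 ⊢
  exact Groth.Agent.Lib.Helper14.CMAffineMap.isCMAt_congr h3 q h2

end Groth.Agent.Lib.Helper14.MaxSlice
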