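import Groth.Agent.Lib.Helper14.MaxSlice.Shrink
import Groth.Agent.Lib.Helper14.MaxSlice.Restrict

/-!
# Maximal slicing of a groupoid scheme (helper14)
-/

set_option autoImplicit false
set_option linter.style.haveILetI false
universe u

open CategoryTheory CategoryTheory.Limits AlgebraicGeometry

namespace Groth.Agent.Lib.Helper14.MaxSlice

variable {S : Scheme.{u}} (G : Grpd.GroupoidScheme S)

theorem exists_max_slice [LocallyOfFinitePresentation G.s] [LocallyOfFinitePresentation G.t]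
    (hs : ∀ r : G.R, Grpd.IsCMAt G.s r) (ht : ∀ r : G.R, Grpd.IsCMAt G.t r) (u : G.U)
    (hu : LocallyOfFiniteType (G.U.fromSpecResidueField u)) :
    ∃ (U' : Scheme.{u}) (_ : IsAffine U') (g : U' ⟶ G.U) (u' : U') (p : ↑(pullback g G.t)),
      IsImmersion g ∧ LocallyOfFinitePresentation g ∧ g u' = u ∧ pullback.fst g G.t p = u' ∧
      pullback.snd g G.t p = G.e u ∧ (∀ q, Grpd.IsCMAt (pullback.snd g G.t ≫ G.s) q) ∧
      LocallyOfFinitePresentation (pullback.snd g G.t ≫ G.s) ∧
      (∀ q, Grpd.IsCMAt (pullback.snd (pullback.snd g G.t ≫ G.s) g) q) ∧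
      LocallyOfFinitePresentation (pullback.snd (pullback.snd g G.t ≫ G.s) g) ∧
      (∀ q, Grpd.IsCMAt (pullback.fst (pullback.snd g G.t ≫ G.s) g ≫ pullback.fst g G.t) q) ∧
      LocallyOfFinitePresentation
        (pullback.fst (pullback.snd g G.t ≫ G.s) g ≫ pullback.fst g G.t) ∧
      FlatMor.fibreDimAt (pullback.snd g G.t ≫ G.s) p =
        topologicalKrullDim ↥(G.stabilizerToU.fiber u) := by
  obtain ⟨Z, hZ, g, p, hI, hL, hz, hp2, hcm, hfd⟩ := exists_max_slice_cm G hs ht u hu
  haveI := hZ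
  haveI := hI
  haveI := hL
  haveI : LocallyOfFinitePresentation (pullback.snd g G.t) :=
    MorphismProperty.pullback_snd (P := @LocallyOfFinitePresentation) g G.t inferInstance
  have hh : LocallyOfFinitePresentation (pullback.snd g G.t ≫ G.s) := inferInstance
  obtain ⟨hL1, hL2⟩ := restrict_prop G g @LocallyOfFinitePresentation hh
  obtain ⟨hC1, hC2⟩ := restrict_isCMAt G g hcm
  exact ⟨Z, hZ, g, pullback.fst g G.t p, p, hI, hL, hz, rfl, hp2, hcm, hh, hC1, hL1, hC2, hL2,
    hfd⟩

end Groth.Agent.Lib.Helper14.MaxSlice
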