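import Groth.Agent.S9358
import Groth.Agent.Lib.Helper11.GrpdLib
import Groth.Agent.Lib.Helper11.GrpdStab
import Groth.Agent.Lib.Helper12.FibreDimStage
import Groth.Agent.Lib.Helper12.ChevalleyCor
import Groth.Agent.Lib.Helper9.TopDim
import Groth.Agent.Lib.Helper14.GrpdSliceStab

/-!
# Homogeneity of the source fibres of a groupoid scheme; the stabilizer is no bigger than the
source fibre (helper14)
-/

set_option autoImplicit false
universe u

open CategoryTheory CategoryTheory.Limits AlgebraicGeometry

namespace Groth.Agent.Lib.Helper14.MaxSlice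

open Groth.Agent.Lib.Helper11.GrpdLib Groth.Agent.Lib.Helper11.GrpdStab
open Groth.Agent.Lib.Helper14.GrpdSliceStab

variable {S : Scheme.{u}} (G : Grpd.GroupoidScheme S)

/-- **homogeneity**: the local dimension of the source fibre at an arrow `r` is the local dimension
at the identity of its target. -/
theorem fibreDimAt_s_eq_unit [LocallyOfFiniteType G.s] (r : G.R) :
    FlatMor.fibreDimAt G.s r = FlatMor.fibreDimAt G.s (G.e (G.t r)) := by
  let lam : G.R ⟶ pullback G.s G.t := pullback.lift (G.t ≫ G.e) (𝟙 G.R)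
    (by rw [Category.assoc, G.e_s, Category.comp_id, Category.id_comp])
  have hc : lam ≫ G.c = 𝟙 G.R := by
    have := G.e_comp (𝟙 G.R)
    simpa [lam] using this
  have hfst : lam ≫ pullback.fst G.s G.t = G.t ≫ G.e := pullback.lift_fst _ _ _
  have e1 := (Groth.Agent.S9358.result G.s G.s G.c (pullback.snd G.s G.t)
    (isPullback_c_snd (G := G)) 0).1 (lam r)
  have e2 := (Groth.Agent.S9358.result G.s G.t (pullback.fst G.s G.t) (pullback.snd G.s G.t)
    (IsPullback.of_hasPullback G.s G.t) 0).1 (lam r)
  have h1 : G.c (lam r) = r := by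
    rw [← Scheme.Hom.comp_apply, hc]
    rfl
  have h2 : pullback.fst G.s G.t (lam r) = G.e (G.t r) := by
    rw [← Scheme.Hom.comp_apply, hfst, Scheme.Hom.comp_apply]
  change FlatMor.fibreDimAt (pullback.snd G.s G.t) (lam r) = FlatMor.fibreDimAt G.s (G.c (lam r)) at e1
  change FlatMor.fibreDimAt (pullback.snd G.s G.t) (lam r) =
    FlatMor.fibreDimAt G.s (pullback.fst G.s G.t (lam r)) at e2
  rw [h1] at e1
  rw [h2] at e2
  rw [← e1, e2]

/-- the stabilizer fibre over `u` has dimension at most the local dimension at `e u` of the source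
fibre. -/
theorem stabilizer_dim_le [LocallyOfFiniteType G.s] (u : G.U) :
    topologicalKrullDim ↥(G.stabilizerToU.fiber u) ≤ FlatMor.fibreDimAt G.s (G.e u) := by
  rw [Groth.Agent.Lib.Helper9.topologicalKrullDim_eq_iSup_localDim]
  apply iSup_le
  intro x
  rw [← Groth.Agent.Lib.Helper12.ChevalleyCor.fibreDimAt_eq_localDim G.stabilizerToU u x]
  have hy : G.stabilizerToU (G.stabilizerToU.fiberι u x) = u := by
    have h3 : G.stabilizerToU.fiberι u x ∈ Set.range (G.stabilizerToU.fiberι u) := ⟨x, rfl⟩
    rw [Scheme.Hom.range_fiberι] at h3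
    exact h3
  rw [Groth.Agent.Lib.Helper12.FibreDimStage.fibreDimAt_congr (g1_s G).symm]
  haveI hdi : IsImmersion G.diag := isImmersion_diag G
  haveI : IsImmersion (g1 G) :=
    MorphismProperty.pullback_fst (P := @IsImmersion) G.j G.diag hdi
  refine (Groth.Agent.Lib.Helper12.FibreDimStage.fibreDimAt_comp_le (g1 G) G.s _).trans ?_
  rw [fibreDimAt_s_eq_unit G]
  have : G.t (g1 G (G.stabilizerToU.fiberι u x)) = u := by
    rw [← Scheme.Hom.comp_apply, g1_t, hy]
  rw [this]

end Groth.Agent.Lib.Helper14.MaxSlice
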