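import Groth.Agent.Lib.Helper14.MaxSlice.Step
import Groth.Agent.Lib.Helper14.MaxSlice.Homog
import Groth.Agent.Lib.Helper12.SecComp

/-!
# Iterated slicing of a groupoid scheme down to the dimension of the stabilizer (helper14)
-/

set_option autoImplicit false
set_option linter.style.haveILetI false
universe u

open CategoryTheory CategoryTheory.Limits AlgebraicGeometry IsLocalRing

namespace Groth.Agent.Lib.Helper14.MaxSlice

open Groth.Agent.Lib.Helper14.GrpdSliceStab

variable {S : Scheme.{u}} (G : Grpd.GroupoidScheme S)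

theorem le_natCast_of_lt_succ (d : WithBot ℕ∞) (m : ℕ)
    (h : d < ((m + 1 : ℕ) : WithBot ℕ∞)) : d ≤ (m : WithBot ℕ∞) := by
  induction d with
  | bot => exact bot_le
  | coe a =>
    induction a with
    | top =>
      exfalso
      have : ((m + 1 : ℕ) : WithBot ℕ∞) = ((((m + 1 : ℕ) : ℕ∞)) : WithBot ℕ∞) := rfl
      rw [this, WithBot.coe_lt_coe] at h
      exact absurd h (not_lt.mpr le_top)
    | coe a =>
      have h' : (a : WithBot ℕ∞) < ((m + 1 : ℕ) : WithBot ℕ∞) := h
      have h2 : a < m + 1 := by exact_mod_cast h'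
      have h3 : a ≤ m := by omega
      exact_mod_cast h3

theorem exists_max_slice_aux [LocallyOfFinitePresentation G.s] [LocallyOfFinitePresentation G.t]
    (u : G.U) (hu : LocallyOfFiniteType (G.U.fromSpecResidueField u)) (n : ℕ) :
    ∀ (Z : Scheme.{u}) (_ : IsAffine Z) (g : Z ⟶ G.U) (_ : IsImmersion g)
      (_ : LocallyOfFinitePresentation g) (p : ↑(pullback g G.t)),
      g (pullback.fst g G.t p) = u → pullback.snd g G.t p = G.e u →
      Grpd.IsCMAt (pullback.snd g G.t ≫ G.s) p →
      FlatMor.fibreDimAt (pullback.snd g G.t ≫ G.s) p = (n : WithBot ℕ∞) →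
      topologicalKrullDim ↥(G.stabilizerToU.fiber u) ≤ (n : WithBot ℕ∞) →
      ∃ (Z' : Scheme.{u}) (_ : IsAffine Z') (g' : Z' ⟶ G.U) (p' : ↑(pullback g' G.t)),
        IsImmersion g' ∧ LocallyOfFinitePresentation g' ∧ g' (pullback.fst g' G.t p') = u ∧
        pullback.snd g' G.t p' = G.e u ∧ Grpd.IsCMAt (pullback.snd g' G.t ≫ G.s) p' ∧
        FlatMor.fibreDimAt (pullback.snd g' G.t ≫ G.s) p' =
          topologicalKrullDim ↥(G.stabilizerToU.fiber u) := by
  induction n using Nat.strong_induction_on with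
  | _ n ih =>
    intro Z hZa g hgI hgL p hz hp2 hcm hdim hle
    by_cases heq : topologicalKrullDim ↥(G.stabilizerToU.fiber u) = (n : WithBot ℕ∞)
    · exact ⟨Z, hZa, g, p, hgI, hgL, hz, hp2, hcm, hdim.trans heq.symm⟩
    · have hlt : topologicalKrullDim ↥(G.stabilizerToU.fiber u) <
          FlatMor.fibreDimAt (pullback.snd g G.t ≫ G.s) p := by
        rw [hdim]
        exact lt_of_le_of_ne hle heq
      obtain ⟨Z', hZ'a, g', p', hI', hL', hz', hp2', hcm', hfd'⟩ :=
        exists_slice_step G u hu g p hz hp2 hcm hlt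
      haveI := hI'
      haveI := hL'
      haveI : LocallyOfFinitePresentation (pullback.snd g' G.t) :=
        MorphismProperty.pullback_snd (P := @LocallyOfFinitePresentation) g' G.t inferInstance
      haveI : LocallyOfFiniteType (pullback.snd g' G.t ≫ G.s) := inferInstance
      obtain ⟨m', hm'⟩ := Groth.Agent.Lib.Helper12.SecComp.exists_nat_fibreDimAt
        (pullback.snd g' G.t ≫ G.s) p'
      rw [hm', hdim] at hfd'
      have hn : m' + 1 = n := by exact_mod_cast hfd'
      subst hn
      exact ih m' (Nat.lt_succ_self m') Z' hZ'a g' hI' hL' p' hz' hp2' hcm' hm'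
        (le_natCast_of_lt_succ _ m' (lt_of_le_of_ne hle heq))

/-- **maximal slicing at the point**: there is an affine slice through `u` such that
`h = s ∘ pr₂` is Cohen–Macaulay at `p = (u', e u)` with fibre of dimension `dim G_u` there. -/
theorem exists_max_slice_point' [LocallyOfFinitePresentation G.s] [LocallyOfFinitePresentation G.t]
    (u : G.U) (hcme : Grpd.IsCMAt G.s (G.e u))
    (hu : LocallyOfFiniteType (G.U.fromSpecResidueField u)) :
    ∃ (Z : Scheme.{u}) (_ : IsAffine Z) (g : Z ⟶ G.U) (p : ↑(pullback g G.t)),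
      IsImmersion g ∧ LocallyOfFinitePresentation g ∧ g (pullback.fst g G.t p) = u ∧
      pullback.snd g G.t p = G.e u ∧ Grpd.IsCMAt (pullback.snd g G.t ≫ G.s) p ∧
      FlatMor.fibreDimAt (pullback.snd g G.t ≫ G.s) p =
        topologicalKrullDim ↥(G.stabilizerToU.fiber u) := by
  obtain ⟨_, ⟨(V : G.U.Opens), (hV : IsAffineOpen V), rfl⟩, huV, -⟩ :=
    G.U.isBasis_affineOpens.exists_subset_of_mem_open (Set.mem_univ u) isOpen_univ
  haveI : IsAffine (V : Scheme.{u}) := hV
  obtain ⟨p, hp1, hp2⟩ := Scheme.Pullback.exists_preimage_pullback (f := V.ι) (g := G.t)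
    ⟨u, huV⟩ (G.e u) (by rw [e_t_apply]; rfl)
  haveI : IsOpenImmersion (pullback.snd V.ι G.t) := inferInstance
  have hcm : Grpd.IsCMAt (pullback.snd V.ι G.t ≫ G.s) p :=
    (grpd_isCMAt_comp_openImmersion_iff _ G.s p).mpr (hp2 ▸ hcme)
  have hfd : FlatMor.fibreDimAt (pullback.snd V.ι G.t ≫ G.s) p =
      FlatMor.fibreDimAt G.s (G.e u) := by
    rw [Groth.Agent.Lib.Helper12.Equidim.fibreDimAt_comp_openImmersion, hp2]
  obtain ⟨n, hn⟩ := Groth.Agent.Lib.Helper12.SecComp.exists_nat_fibreDimAt G.s (G.e u)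
  exact exists_max_slice_aux G u hu n V.toScheme inferInstance V.ι inferInstance inferInstance p
    (by rw [hp1]; rfl) hp2 hcm (hfd.trans hn) (by rw [← hn]; exact stabilizer_dim_le G u)

/-- **maximal slicing at the point**. -/
theorem exists_max_slice_point [LocallyOfFinitePresentation G.s] [LocallyOfFinitePresentation G.t]
    (hs : ∀ r : G.R, Grpd.IsCMAt G.s r) (u : G.U)
    (hu : LocallyOfFiniteType (G.U.fromSpecResidueField u)) :
    ∃ (Z : Scheme.{u}) (_ : IsAffine Z) (g : Z ⟶ G.U) (p : ↑(pullback g G.t)),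
      IsImmersion g ∧ LocallyOfFinitePresentation g ∧ g (pullback.fst g G.t p) = u ∧
      pullback.snd g G.t p = G.e u ∧ Grpd.IsCMAt (pullback.snd g G.t ≫ G.s) p ∧
      FlatMor.fibreDimAt (pullback.snd g G.t ≫ G.s) p =
        topologicalKrullDim ↥(G.stabilizerToU.fiber u) :=
  exists_max_slice_point' G u (hs _) hu

end Groth.Agent.Lib.Helper14.MaxSlice
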