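import Groth.Agent.S7510
import Groth.Agent.Lib.Helper14.CMOpenness
import Groth.Agent.Lib.Helper14.CMBaseChange
import Groth.Agent.Lib.Helper14.MaxSlice.Transport

/-!
# The Cohen–Macaulay locus of `h = s ∘ pr₂ : U' ×_{g,U,t} R ⟶ U` is pulled back from `U'`
(helper14), via helper11's S7510.
-/

set_option autoImplicit false
set_option linter.style.haveILetI false
universe u

open CategoryTheory CategoryTheory.Limits AlgebraicGeometry

namespace Groth.Agent.Lib.Helper14.MaxSlice

open Groth.Agent.Lib.Helper14.GrpdCM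

/-- "locally of finite presentation and Cohen–Macaulay at every point". -/
def cmProp : MorphismProperty Scheme.{u} :=
  fun _ _ f => LocallyOfFinitePresentation f ∧ ∀ x, MoreMor.IsCMAt f x

instance : cmProp.{u}.RespectsIso := by
  apply MorphismProperty.RespectsIso.mk
  · intro X Y Z e f hf
    obtain ⟨hf1, hf2⟩ := hf
    haveI := hf1
    refine ⟨inferInstance, fun x => ?_⟩
    rw [← grpd_isCMAt_iff, grpd_isCMAt_comp_openImmersion_iff e.hom f x, grpd_isCMAt_iff]
    exact hf2 _
  · intro X Y Z e f hf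
    obtain ⟨hf1, hf2⟩ := hf
    haveI := hf1
    refine ⟨inferInstance, fun x => ?_⟩
    haveI : LocallyOfFiniteType ((f ≫ e.hom).fiberToSpecResidueField (e.hom (f x))) := by
      change LocallyOfFiniteType (pullback.snd (f ≫ e.hom) (Z.fromSpecResidueField (e.hom (f x))))
      infer_instance
    have hN : IsLocallyNoetherian ((f ≫ e.hom).fiber (e.hom (f x))) :=
      LocallyOfFiniteType.isLocallyNoetherian
        ((f ≫ e.hom).fiberToSpecResidueField (e.hom (f x)))
    exact Groth.Agent.S9766.result f e.hom x hN (hf2 x)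
      (Groth.Agent.Lib.Helper14.CMAffineMap.isCMAt_of_isOpenImmersion e.hom (f x))

/-- the Cohen–Macaulay locus, as an open subset. -/
noncomputable def cmLocus {X Y : Scheme.{u}} (f : X ⟶ Y) (hf : LocallyOfFinitePresentation f) :
    X.Opens :=
  ⟨{x | MoreMor.IsCMAt f x},
    haveI := hf
    Groth.Agent.Lib.Helper14.CMOpenness.isOpen_setOf_isCMAt f⟩

theorem mem_cmLocus {X Y : Scheme.{u}} (f : X ⟶ Y) (hf : LocallyOfFinitePresentation f) (x : X) :
    x ∈ cmLocus f hf ↔ MoreMor.IsCMAt f x := Iff.rfl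

theorem cmLocus_spec {X Y : Scheme.{u}} (f : X ⟶ Y) (hf : LocallyOfFinitePresentation f) :
    cmProp ((cmLocus f hf).ι ≫ f) := by
  haveI := hf
  refine ⟨inferInstance, fun x => ?_⟩
  exact Groth.Agent.Lib.Helper14.CMAffineMap.isCMAt_ι_comp f (cmLocus f hf) x x.2

theorem le_cmLocus {X Y : Scheme.{u}} (f : X ⟶ Y) (hf : LocallyOfFinitePresentation f)
    (V : X.Opens) (hV : cmProp (V.ι ≫ f)) : V ≤ cmLocus f hf := by
  haveI := hf
  intro v hv
  have h1 := hV.2 ⟨v, hv⟩
  rw [← grpd_isCMAt_iff, grpd_isCMAt_comp_openImmersion_iff V.ι f ⟨v, hv⟩, grpd_isCMAt_iff] at h1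
  exact h1

theorem cmLocus_baseChange {X Y Y' : Scheme.{u}} (f : X ⟶ Y)
    (hf : LocallyOfFinitePresentation f) (b : Y' ⟶ Y) (hb1 : Flat b)
    (hb2 : LocallyOfFinitePresentation b)
    (hf' : LocallyOfFinitePresentation (pullback.snd f b)) :
    pullback.fst f b ⁻¹ᵁ cmLocus f hf = cmLocus (pullback.snd f b) hf' := by
  haveI := hf
  haveI := hb1
  haveI := hb2
  have hc : IsPullback (pullback.fst f b) (pullback.snd f b) f b := IsPullback.of_hasPullback f b
  ext x'
  haveI : LocallyOfFiniteType (f.fiberToSpecResidueField (b (pullback.snd f b x'))) := by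
    change LocallyOfFiniteType (pullback.snd f (Y.fromSpecResidueField (b (pullback.snd f b x'))))
    infer_instance
  haveI hN : IsLocallyNoetherian (f.fiber (b (pullback.snd f b x'))) :=
    LocallyOfFiniteType.isLocallyNoetherian
      (f.fiberToSpecResidueField (b (pullback.snd f b x')))
  constructor
  · intro h
    exact Groth.Agent.Lib.Helper14.CMBaseChange.isCMAt_baseChange hc x' (Or.inr inferInstance) h
  · intro h
    have hfl := Groth.Agent.Lib.Helper14.CMBaseChange.flat_stalkMap_of_baseChange hc x'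
      (Flat.stalkMap b _) h.1
    exact Groth.Agent.Lib.Helper14.CMBaseChange.isCMAt_of_baseChange hc x'
      (Or.inr inferInstance) hfl h

variable {S : Scheme.{u}} (G : Grpd.GroupoidScheme S)

/-- the Cohen–Macaulay locus of `h = s ∘ pr₂` is the preimage of an open subset of `U'`. -/
theorem exists_open_fst_preimage_eq_cmLocus [Flat G.s] [LocallyOfFinitePresentation G.s]
    [Flat G.t] [LocallyOfFinitePresentation G.t] {Z : Scheme.{u}} (g : Z ⟶ G.U)
    [LocallyOfFinitePresentation g]
    (hh : LocallyOfFinitePresentation (pullback.snd g G.t ≫ G.s)) :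
    ∃ V : Z.Opens, pullback.fst g G.t ⁻¹ᵁ V = cmLocus (pullback.snd g G.t ≫ G.s) hh := by
  exact Groth.Agent.S7510.result S G g cmProp @LocallyOfFinitePresentation
    (@Flat ⊓ @LocallyOfFinitePresentation) inf_le_right
    (fun f hf => cmLocus f hf) (fun f hf => cmLocus_spec f hf)
    (fun f hf V hV => le_cmLocus f hf V hV)
    (fun f hf b hb hf' => cmLocus_baseChange f hf b hb.1 hb.2 hf')
    ⟨inferInstance, inferInstance⟩ ⟨inferInstance, inferInstance⟩ inferInstance hh

end Groth.Agent.Lib.Helper14.MaxSlice
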