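import Groth.Agent.Lib.Helper14.MaxSlice.Final
import Groth.Agent.Lib.Helper16.QfAt
import Groth.Agent.Lib.Helper16.QfLocus

/-!
# Maximal slicing of a groupoid scheme with quasi-finite stabilizer (helper14)
-/

set_option autoImplicit false
set_option linter.style.haveILetI false
universe u

open CategoryTheory CategoryTheory.Limits AlgebraicGeometry

namespace Groth.Agent.Lib.Helper14.MaxSlice

open Groth.Agent.Lib.Helper14.GrpdCM

theorem qfLocus_baseChange {X Y Y' : Scheme.{u}} (f : X ⟶ Y) (hf : LocallyOfFiniteType f)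
    (b : Y' ⟶ Y) (hf' : LocallyOfFiniteType (pullback.snd f b)) :
    pullback.fst f b ⁻¹ᵁ f.quasiFiniteLocus = (pullback.snd f b).quasiFiniteLocus := by
  ext x'
  change f.QuasiFiniteAt (pullback.fst f b x') ↔ (pullback.snd f b).QuasiFiniteAt x'
  rw [← Groth.Agent.Lib.Helper16.QfAt.fibreDimAt_eq_zero_iff,
    ← Groth.Agent.Lib.Helper16.QfAt.fibreDimAt_eq_zero_iff,
    (Groth.Agent.S9358.result f b (pullback.fst f b) (pullback.snd f b)
      (IsPullback.of_hasPullback f b) 0).1 x']

variable {S : Scheme.{u}} (G : Grpd.GroupoidScheme S)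

/-- the quasi-finite locus of `h = s ∘ pr₂` is the preimage of an open subset of `U'`. -/
theorem exists_open_fst_preimage_eq_qfLocus [LocallyOfFiniteType G.s]
    [LocallyOfFiniteType G.t] {Z : Scheme.{u}} (g : Z ⟶ G.U) [LocallyOfFiniteType g]
    (hh : LocallyOfFiniteType (pullback.snd g G.t ≫ G.s)) :
    ∃ V : Z.Opens, pullback.fst g G.t ⁻¹ᵁ V = (pullback.snd g G.t ≫ G.s).quasiFiniteLocus := by
  exact Groth.Agent.S7510.result S G g @LocallyQuasiFinite @LocallyOfFiniteType
    @LocallyOfFiniteType le_rfl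
    (fun f hf => @Scheme.Hom.quasiFiniteLocus _ _ f hf)
    (fun f hf => by
      haveI := hf
      infer_instance)
    (fun f hf V hV => by
      haveI := hf
      haveI := hV
      intro v hv
      have h1 : (V.ι ≫ f).quasiFiniteLocus = ⊤ := Scheme.Hom.quasiFiniteLocus_eq_top _
      rw [Scheme.Hom.quasiFiniteLocus_comp] at h1
      have h2 : (⟨v, hv⟩ : V) ∈ V.ι ⁻¹ᵁ f.quasiFiniteLocus := by rw [h1]; trivial
      exact h2)
    (fun f hf b _ hf' => qfLocus_baseChange f hf b hf')
    inferInstance inferInstance inferInstance hh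

set_option maxHeartbeats 800000 in
/-- quasi-finite maximal slicing, with weak hypotheses: `s`, `t` flat and locally of finite
presentation, `s` Cohen–Macaulay at `e u`, and the stabilizer fibre at `u` of dimension `≤ 0`. -/
theorem exists_max_slice_quasiFinite' [Flat G.s] [Flat G.t] [LocallyOfFinitePresentation G.s]
    [LocallyOfFinitePresentation G.t] (u : G.U) (hcme : Grpd.IsCMAt G.s (G.e u))
    (hu : LocallyOfFiniteType (G.U.fromSpecResidueField u))
    (hd0 : topologicalKrullDim ↥(G.stabilizerToU.fiber u) ≤ 0) :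
    ∃ (Z : Scheme.{u}) (_ : IsAffine Z) (g : Z ⟶ G.U) (p : ↑(pullback g G.t)),
      IsImmersion g ∧ LocallyOfFinitePresentation g ∧ g (pullback.fst g G.t p) = u ∧
      pullback.snd g G.t p = G.e u ∧
      Flat (pullback.snd g G.t ≫ G.s) ∧ LocallyOfFinitePresentation (pullback.snd g G.t ≫ G.s) ∧
      LocallyQuasiFinite (pullback.snd g G.t ≫ G.s) := by
  obtain ⟨Z, hZ, g, p, hI, hL, hz, hp2, hcm, hfd⟩ := exists_max_slice_cm' G u hcme hu
  haveI := hZ
  haveI := hI
  haveI := hL
  haveI : LocallyOfFinitePresentation (pullback.snd g G.t) :=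
    MorphismProperty.pullback_snd (P := @LocallyOfFinitePresentation) g G.t inferInstance
  haveI hh : LocallyOfFinitePresentation (pullback.snd g G.t ≫ G.s) := inferInstance
  have hh' : LocallyOfFiniteType (pullback.snd g G.t ≫ G.s) := inferInstance
  have hfd0 : FlatMor.fibreDimAt (pullback.snd g G.t ≫ G.s) p = 0 :=
    le_antisymm (hfd ▸ hd0) (Groth.Agent.Lib.Helper16.QfAt.fibreDimAt_nonneg _ _)
  have hqf : (pullback.snd g G.t ≫ G.s).QuasiFiniteAt p :=
    (Groth.Agent.Lib.Helper16.QfAt.fibreDimAt_eq_zero_iff _ p).mp hfd0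
  obtain ⟨V', hV'⟩ := exists_open_fst_preimage_eq_qfLocus G g hh'
  have hpV' : pullback.fst g G.t p ∈ V' := by
    have : p ∈ pullback.fst g G.t ⁻¹ᵁ V' := by
      rw [hV']
      exact hqf
    exact this
  obtain ⟨Z'', hZ'', j, hj, p'', hωp, hωV⟩ := exists_shrink_slice G g p V' hpV'
  haveI := hj
  haveI := hZ''
  have htr := fun q => transport_openImmersion (omega G g j) (pullback.snd g G.t ≫ G.s)
    (pullback.snd (j ≫ g) G.t ≫ G.s) (comp_s_eq G g j) q
  haveI : LocallyOfFinitePresentation (pullback.snd (j ≫ g) G.t) :=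
    MorphismProperty.pullback_snd (P := @LocallyOfFinitePresentation) (j ≫ g) G.t inferInstance
  have hh2 : LocallyOfFinitePresentation (pullback.snd (j ≫ g) G.t ≫ G.s) := inferInstance
  have hflat : Flat (pullback.snd (j ≫ g) G.t ≫ G.s) :=
    Flat.of_stalkMap _ fun q => ((htr q).1.mpr (hcm _)).1
  have hlqf : LocallyQuasiFinite (pullback.snd (j ≫ g) G.t ≫ G.s) := by
    rw [comp_s_eq G g j, ← Scheme.Hom.quasiFiniteLocus_eq_top_iff,
      Scheme.Hom.quasiFiniteLocus_comp, ← hV']
    ext q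
    simp only [Scheme.Hom.preimage_top, TopologicalSpace.Opens.coe_top, Set.mem_univ, iff_true]
    exact hωV q
  refine ⟨Z'', hZ'', j ≫ g, p'', inferInstance, inferInstance, ?_, ?_, hflat, hh2, hlqf⟩
  · rw [Scheme.Hom.comp_apply, ← omega_fst_apply, hωp, hz]
  · rw [← omega_snd_apply, hωp, hp2]

theorem exists_max_slice_quasiFinite [LocallyOfFinitePresentation G.s]
    [LocallyOfFinitePresentation G.t]
    (hs : ∀ r : G.R, Grpd.IsCMAt G.s r) (ht : ∀ r : G.R, Grpd.IsCMAt G.t r)
    [LocallyOfFiniteType G.stabilizerToU] [LocallyQuasiFinite G.stabilizerToU] (u : G.U)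
    (hu : LocallyOfFiniteType (G.U.fromSpecResidueField u)) :
    ∃ (U' : Scheme.{u}) (_ : IsAffine U') (g : U' ⟶ G.U) (u' : U'),
      IsImmersion g ∧ LocallyOfFinitePresentation g ∧ g u' = u ∧
      (Flat (pullback.snd g G.t ≫ G.s) ∧ LocallyOfFinitePresentation (pullback.snd g G.t ≫ G.s) ∧
        LocallyOfFiniteType (pullback.snd g G.t ≫ G.s) ∧
        LocallyQuasiFinite (pullback.snd g G.t ≫ G.s)) ∧
      (Flat (pullback.snd (pullback.snd g G.t ≫ G.s) g) ∧
        LocallyOfFinitePresentation (pullback.snd (pullback.snd g G.t ≫ G.s) g) ∧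
        LocallyQuasiFinite (pullback.snd (pullback.snd g G.t ≫ G.s) g)) ∧
      (Flat (pullback.fst (pullback.snd g G.t ≫ G.s) g ≫ pullback.fst g G.t) ∧
        LocallyOfFinitePresentation
          (pullback.fst (pullback.snd g G.t ≫ G.s) g ≫ pullback.fst g G.t) ∧
        LocallyQuasiFinite (pullback.fst (pullback.snd g G.t ≫ G.s) g ≫ pullback.fst g G.t)) := by
  haveI : Flat G.s := Flat.of_stalkMap G.s fun r => (hs r).1
  haveI : Flat G.t := Flat.of_stalkMap G.t fun r => (ht r).1
  haveI : DiscreteTopology ↥(G.stabilizerToU.fiber u) := inferInstance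
  have hd0 : topologicalKrullDim ↥(G.stabilizerToU.fiber u) ≤ 0 :=
    topologicalKrullDim_zero_of_discreteTopology _
  obtain ⟨Z, hZ, g, p, hI, hL, hz, hp2, hflat, hh2, hlqf⟩ :=
    exists_max_slice_quasiFinite' G u (hs _) hu hd0
  haveI := hh2
  obtain ⟨hF1, hF2⟩ := restrict_prop G g @Flat hflat
  obtain ⟨hL1, hL2⟩ := restrict_prop G g @LocallyOfFinitePresentation hh2
  obtain ⟨hQ1, hQ2⟩ := restrict_prop G g @LocallyQuasiFinite hlqf
  exact ⟨Z, hZ, g, pullback.fst g G.t p, hI, hL, hz,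
    ⟨hflat, hh2, inferInstance, hlqf⟩, ⟨hF1, hL1, hQ1⟩, ⟨hF2, hL2, hQ2⟩⟩

end Groth.Agent.Lib.Helper14.MaxSlice
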