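import Groth.Agent.Lib.Helper14.MaxSlice.Induct
import Groth.Agent.Lib.Helper14.MaxSlice.Locus

/-!
# Shrinking a slice so that `h` is Cohen–Macaulay everywhere (helper14)
-/

set_option autoImplicit false
set_option linter.style.haveILetI false
universe u

open CategoryTheory CategoryTheory.Limits AlgebraicGeometry IsLocalRing

namespace Groth.Agent.Lib.Helper14.MaxSlice

open Groth.Agent.Lib.Helper14.GrpdSliceStab Groth.Agent.Lib.Helper14.GrpdCM

/-- an affine open neighbourhood inside a given open of an affine scheme. -/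
theorem exists_shrink {Z : Scheme.{u}} [IsAffine Z] (V' : Z.Opens) (z : Z) (hz : z ∈ V') :
    ∃ (Z'' : Scheme.{u}) (_ : IsAffine Z'') (j : Z'' ⟶ Z) (_ : IsOpenImmersion j) (z'' : Z''),
      j z'' = z ∧ ∀ y, j y ∈ V' := by
  obtain ⟨f, hf1, hf2⟩ := (isAffineOpen_top Z).exists_basicOpen_le (V := V') ⟨z, hz⟩
    (Set.mem_univ _)
  have hA : IsAffineOpen (Z.basicOpen f) := (isAffineOpen_top Z).basicOpen f
  haveI : IsAffine (Z.basicOpen f : Scheme.{u}) := hA
  refine ⟨(Z.basicOpen f : Scheme.{u}), inferInstance, (Z.basicOpen f).ι, inferInstance,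
    ⟨z, hf2⟩, rfl, fun y => hf1 y.2⟩

variable {S : Scheme.{u}} (G : Grpd.GroupoidScheme S)

section Reparam

variable {Z Z'' : Scheme.{u}} (g : Z ⟶ G.U) (j : Z'' ⟶ Z)

/-- the open immersion `Z'' ×_U R ⟶ Z ×_U R` induced by an open immersion `j : Z'' ⟶ Z`. -/
noncomputable def omega : pullback (j ≫ g) G.t ⟶ pullback g G.t :=
  (pullbackRightPullbackFstIso g G.t j).inv ≫ pullback.snd j (pullback.fst g G.t)

instance [IsOpenImmersion j] : IsOpenImmersion (omega G g j) := by
  unfold omega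
  infer_instance

theorem omega_snd : omega G g j ≫ pullback.snd g G.t = pullback.snd (j ≫ g) G.t := by
  unfold omega
  rw [Category.assoc, pullbackRightPullbackFstIso_inv_snd_snd]

theorem omega_fst : omega G g j ≫ pullback.fst g G.t = pullback.fst (j ≫ g) G.t ≫ j := by
  unfold omega
  rw [Category.assoc, pullbackRightPullbackFstIso_inv_snd_fst]

theorem omega_snd_apply (q : ↑(pullback (j ≫ g) G.t)) :
    pullback.snd g G.t (omega G g j q) = pullback.snd (j ≫ g) G.t q := by
  rw [← Scheme.Hom.comp_apply, omega_snd]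

theorem omega_fst_apply (q : ↑(pullback (j ≫ g) G.t)) :
    pullback.fst g G.t (omega G g j q) = j (pullback.fst (j ≫ g) G.t q) := by
  rw [← Scheme.Hom.comp_apply, omega_fst, Scheme.Hom.comp_apply]

theorem comp_s_eq : pullback.snd (j ≫ g) G.t ≫ G.s = omega G g j ≫ (pullback.snd g G.t ≫ G.s) := by
  rw [← Category.assoc, omega_snd]

end Reparam

/-- shrinking a slice around the point `p` into a given open of `Z`. -/
theorem exists_shrink_slice {Z : Scheme.{u}} [IsAffine Z] (g : Z ⟶ G.U) [IsImmersion g]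
    (p : ↑(pullback g G.t)) (V' : Z.Opens) (hp : pullback.fst g G.t p ∈ V') :
    ∃ (Z'' : Scheme.{u}) (_ : IsAffine Z'') (j : Z'' ⟶ Z) (_ : IsOpenImmersion j)
      (p'' : ↑(pullback (j ≫ g) G.t)), omega G g j p'' = p ∧
      ∀ q, pullback.fst g G.t (omega G g j q) ∈ V' := by
  obtain ⟨Z'', hZ'', j, hj, z'', hz'', hjV⟩ := exists_shrink V' _ hp
  haveI := hj
  have hcond : (j ≫ g) z'' = G.t (pullback.snd g G.t p) := by
    rw [Scheme.Hom.comp_apply, hz'', ← Scheme.Hom.comp_apply, ← Scheme.Hom.comp_apply,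
      pullback.condition]
  obtain ⟨p'', hp1'', hp2''⟩ := Scheme.Pullback.exists_preimage_pullback (f := j ≫ g)
    (g := G.t) z'' (pullback.snd g G.t p) hcond
  haveI : IsImmersion (pullback.snd g G.t) :=
    MorphismProperty.pullback_snd (P := @IsImmersion) g G.t inferInstance
  refine ⟨Z'', hZ'', j, hj, p'', ?_, fun q => ?_⟩
  · apply (pullback.snd g G.t).isEmbedding.injective
    rw [omega_snd_apply, hp2'']
  · rw [omega_fst_apply]
    exact hjV _

/-- **maximal slicing, Cohen–Macaulay everywhere**. -/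
theorem exists_max_slice_cm' [Flat G.s] [Flat G.t] [LocallyOfFinitePresentation G.s] [LocallyOfFinitePresentation G.t]
    (u : G.U) (hcme : Grpd.IsCMAt G.s (G.e u))
    (hu : LocallyOfFiniteType (G.U.fromSpecResidueField u)) :
    ∃ (Z : Scheme.{u}) (_ : IsAffine Z) (g : Z ⟶ G.U) (p : ↑(pullback g G.t)),
      IsImmersion g ∧ LocallyOfFinitePresentation g ∧ g (pullback.fst g G.t p) = u ∧
      pullback.snd g G.t p = G.e u ∧ (∀ q, Grpd.IsCMAt (pullback.snd g G.t ≫ G.s) q) ∧
      FlatMor.fibreDimAt (pullback.snd g G.t ≫ G.s) p =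
        topologicalKrullDim ↥(G.stabilizerToU.fiber u) := by
  obtain ⟨Z, hZ, g, p, hI, hL, hz, hp2, hcm, hfd⟩ := exists_max_slice_point' G u hcme hu
  haveI := hZ
  haveI := hI
  haveI := hL
  haveI : LocallyOfFinitePresentation (pullback.snd g G.t) :=
    MorphismProperty.pullback_snd (P := @LocallyOfFinitePresentation) g G.t inferInstance
  have hh : LocallyOfFinitePresentation (pullback.snd g G.t ≫ G.s) := inferInstance
  obtain ⟨V', hV'⟩ := exists_open_fst_preimage_eq_cmLocus G g hh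
  have hpV' : pullback.fst g G.t p ∈ V' := by
    have : p ∈ pullback.fst g G.t ⁻¹ᵁ V' := by
      rw [hV', mem_cmLocus, ← grpd_isCMAt_iff]
      exact hcm
    exact this
  obtain ⟨Z'', hZ'', j, hj, p'', hωp, hωV⟩ := exists_shrink_slice G g p V' hpV'
  haveI := hj
  have htr := fun q => transport_openImmersion (omega G g j) (pullback.snd g G.t ≫ G.s)
    (pullback.snd (j ≫ g) G.t ≫ G.s) (comp_s_eq G g j) q
  refine ⟨Z'', hZ'', j ≫ g, p'', inferInstance, inferInstance, ?_, ?_, fun q => ?_, ?_⟩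
  · rw [Scheme.Hom.comp_apply, ← omega_fst_apply, hωp, hz]
  · rw [← omega_snd_apply, hωp, hp2]
  · rw [(htr q).1, grpd_isCMAt_iff, ← mem_cmLocus _ hh, ← hV']
    exact hωV q
  · rw [(htr p'').2, hωp, hfd]

/-- **maximal slicing, Cohen–Macaulay everywhere**. -/
theorem exists_max_slice_cm [LocallyOfFinitePresentation G.s] [LocallyOfFinitePresentation G.t]
    (hs : ∀ r : G.R, Grpd.IsCMAt G.s r) (ht : ∀ r : G.R, Grpd.IsCMAt G.t r) (u : G.U)
    (hu : LocallyOfFiniteType (G.U.fromSpecResidueField u)) :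
    ∃ (Z : Scheme.{u}) (_ : IsAffine Z) (g : Z ⟶ G.U) (p : ↑(pullback g G.t)),
      IsImmersion g ∧ LocallyOfFinitePresentation g ∧ g (pullback.fst g G.t p) = u ∧
      pullback.snd g G.t p = G.e u ∧ (∀ q, Grpd.IsCMAt (pullback.snd g G.t ≫ G.s) q) ∧
      FlatMor.fibreDimAt (pullback.snd g G.t ≫ G.s) p =
        topologicalKrullDim ↥(G.stabilizerToU.fiber u) := by
  haveI : Flat G.s := Flat.of_stalkMap G.s fun r => (hs r).1
  haveI : Flat G.t := Flat.of_stalkMap G.t fun r => (ht r).1
  exact exists_max_slice_cm' G u (hs _) hu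

end Groth.Agent.Lib.Helper14.MaxSlice
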