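import Groth.Agent.Lib.Helper14.GrpdSliceMain

/-!
# Slicing a Cohen–Macaulay morphism along a function pulled back from another scheme (helper14)
-/

set_option autoImplicit false
universe u

open CategoryTheory CategoryTheory.Limits AlgebraicGeometry IsLocalRing

namespace Groth.Agent.Lib.Helper14.MaxSlice

open Groth.Agent.Lib.Helper14.GrpdSliceK

variable {X Y Z : Scheme.{u}} (s : X ⟶ Y) (t : X ⟶ Z) {V : Z.Opens} (hV : IsAffineOpen V)
  (f₀ : Γ(Z, V))

set_option maxHeartbeats 800000 in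
/-- **slicing**: if `s` is Cohen–Macaulay at `x = pr₂ p` and `t♯ f₀` is a nonunit regular on the
fibre ring of `s` at `x`, then `s ∘ pr₂ : V(f₀) ×_{Y,t} X ⟶ Y` is Cohen–Macaulay at `p`, with fibre
ring of dimension one less. -/
theorem isCMAt_slice' [LocallyOfFinitePresentation s] (p : ↑(pullback (sliceHom hV f₀) t))
    (hcm : Grpd.IsCMAt s (pullback.snd (sliceHom hV f₀) t p))
    (hbm : X.presheaf.germ (t ⁻¹ᵁ V) (pullback.snd (sliceHom hV f₀) t p) (t_snd_mem p)
        (t.app V f₀) ∈ maximalIdeal (X.presheaf.stalk (pullback.snd (sliceHom hV f₀) t p)))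
    (hreg : ∀ w : X.presheaf.stalk (pullback.snd (sliceHom hV f₀) t p),
      X.presheaf.germ (t ⁻¹ᵁ V) (pullback.snd (sliceHom hV f₀) t p) (t_snd_mem p)
        (t.app V f₀) * w ∈
        (maximalIdeal (Y.presheaf.stalk (s (pullback.snd (sliceHom hV f₀) t p)))).map
          (s.stalkMap (pullback.snd (sliceHom hV f₀) t p)).hom →
      w ∈ (maximalIdeal (Y.presheaf.stalk (s (pullback.snd (sliceHom hV f₀) t p)))).map
          (s.stalkMap (pullback.snd (sliceHom hV f₀) t p)).hom) :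
    Grpd.IsCMAt (pullback.snd (sliceHom hV f₀) t ≫ s) p ∧
      ringKrullDim ((pullback (sliceHom hV f₀) t).presheaf.stalk p ⧸
        (maximalIdeal (Y.presheaf.stalk ((pullback.snd (sliceHom hV f₀) t ≫ s) p))).map
          ((pullback.snd (sliceHom hV f₀) t ≫ s).stalkMap p).hom) + 1 =
      ringKrullDim (X.presheaf.stalk (pullback.snd (sliceHom hV f₀) t p) ⧸
        (maximalIdeal (Y.presheaf.stalk (s (pullback.snd (sliceHom hV f₀) t p)))).map
          (s.stalkMap (pullback.snd (sliceHom hV f₀) t p)).hom) := by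
  obtain ⟨hfl, hcmO⟩ := hcm
  obtain ⟨-, hflq⟩ := Groth.Agent.Lib.Helper14.GrpdSliceFlat.flat_quot_stalk s _ hfl _ hbm hreg
  have key := Groth.Agent.Lib.Helper14.GrpdSliceAlg.slice_alg
    (s.stalkMap (pullback.snd (sliceHom hV f₀) t p)).hom
    ((pullback.snd (sliceHom hV f₀) t).stalkMap p).hom
    (stalkMap_snd_surjective p) _ (ker_stalkMap_snd p) hbm hflq hcmO hreg
  have hcomp : ((pullback.snd (sliceHom hV f₀) t ≫ s).stalkMap p).hom =
      ((pullback.snd (sliceHom hV f₀) t).stalkMap p).hom.comp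
        (s.stalkMap (pullback.snd (sliceHom hV f₀) t p)).hom := by
    rw [Scheme.Hom.stalkMap_comp]
    rfl
  obtain ⟨k1, k2, k3⟩ := key
  unfold Grpd.IsCMAt
  rw [hcomp]
  exact ⟨⟨k1, k2⟩, k3⟩

end Groth.Agent.Lib.Helper14.MaxSlice
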