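import Groth.Agent.Lib.Helper14.GrpdSliceFinal
import Groth.Agent.Lib.Helper14.MaxSlice.Alg
import Groth.Agent.Lib.Helper14.MaxSlice.Slice
import Groth.Agent.Lib.Helper14.MaxSlice.Transport

/-!
# The inductive step of maximal slicing of a groupoid scheme (helper14)
-/

set_option autoImplicit false
set_option linter.style.haveILetI false
universe u

open CategoryTheory CategoryTheory.Limits AlgebraicGeometry IsLocalRing

namespace Groth.Agent.Lib.Helper14.MaxSlice

open Groth.Agent.Lib.Helper14.GrpdSliceK Groth.Agent.Lib.Helper14.GrpdSliceMain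
open Groth.Agent.Lib.Helper14.GrpdSliceStab Groth.Agent.Lib.Helper14.GrpdSliceFinal

variable {S : Scheme.{u}} (G : Grpd.GroupoidScheme S)

/-- a finite type point is a closed point of some affine open, i.e. corresponds to a maximal
ideal. -/
theorem exists_chart {Y : Scheme.{u}} (u : Y)
    (hu : LocallyOfFiniteType (Y.fromSpecResidueField u)) :
    ∃ (V : Y.Opens) (hV : IsAffineOpen V) (huV : u ∈ V),
      (hV.primeIdealOf ⟨u, huV⟩).asIdeal.IsMaximal := by
  let x : Spec (CommRingCat.of (IsLocalRing.ResidueField (Y.presheaf.stalk u))) :=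
    IsLocalRing.closedPoint _
  obtain ⟨V, hV, hxV, hcl⟩ := @Groth.Agent.Lib.Helper14.exists_affine_isClosed_of_lft_from_field
    Y (IsLocalRing.ResidueField (Y.presheaf.stalk u)) _ (Y.fromSpecResidueField u) hu x
  have hfx : Y.fromSpecResidueField u x = u := Scheme.fromSpecResidueField_apply _ _
  have huV : u ∈ V := hfx ▸ hxV
  have hcl' : IsClosed ({⟨u, huV⟩} : Set ↥V) := by
    convert hcl using 2
    exact Subtype.ext hfx.symm
  exact ⟨V, hV, huV, isMaximal_primeIdealOf_of_isClosed' hV ⟨u, huV⟩ hcl'⟩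

/-- **dimension bound**, chart-free and point-generic form. -/
theorem ringKrullDim_quotient_le' [LocallyOfFiniteType G.s] (u : G.U)
    (hu : LocallyOfFiniteType (G.U.fromSpecResidueField u))
    (r : G.R) (hr : r = G.e u) (𝔓 : Ideal (G.R.presheaf.stalk r)) [𝔓.IsPrime]
    (h1 : (maximalIdeal (G.U.presheaf.stalk (G.s r))).map (G.s.stalkMap r).hom ≤ 𝔓)
    (h2 : (maximalIdeal (G.U.presheaf.stalk (G.t r))).map (G.t.stalkMap r).hom ≤ 𝔓) :
    ringKrullDim (G.R.presheaf.stalk r ⧸ 𝔓) ≤
      topologicalKrullDim ↥(G.stabilizerToU.fiber u) := by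
  subst hr
  obtain ⟨V, hV, huV, hmax⟩ := exists_chart u hu
  have hsV : G.e u ∈ G.s ⁻¹ᵁ V := by
    show G.s (G.e u) ∈ V
    rw [e_s_apply]; exact huV
  have htV : G.e u ∈ G.t ⁻¹ᵁ V := by
    show G.t (G.e u) ∈ V
    rw [e_t_apply]; exact huV
  have hpts : (⟨G.s (G.e u), hsV⟩ : V) = ⟨u, huV⟩ := Subtype.ext (e_s_apply G u)
  have hptt : (⟨G.t (G.e u), htV⟩ : V) = ⟨u, huV⟩ := Subtype.ext (e_t_apply G u)
  have hI : (maximalIdeal (G.U.presheaf.stalk (G.s (G.e u)))).map (G.s.stalkMap (G.e u)).hom =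
      (hV.primeIdealOf ⟨u, huV⟩).asIdeal.map
        ((G.R.presheaf.germ (G.s ⁻¹ᵁ V) (G.e u) hsV).hom.comp (G.s.app V).hom) := by
    rw [map_maximalIdeal_stalkMap_eq G.s hV (G.e u) hsV, hpts]
  have hJ : (maximalIdeal (G.U.presheaf.stalk (G.t (G.e u)))).map (G.t.stalkMap (G.e u)).hom =
      (hV.primeIdealOf ⟨u, huV⟩).asIdeal.map
        ((G.R.presheaf.germ (G.t ⁻¹ᵁ V) (G.e u) htV).hom.comp (G.t.app V).hom) := by
    rw [map_maximalIdeal_stalkMap_eq G.t hV (G.e u) htV, hptt]
  rw [hI] at h1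
  rw [hJ] at h2
  exact ringKrullDim_quotient_le G u hV huV hmax hsV htV 𝔓
    (fun a ha => h1 (Ideal.mem_map_of_mem _ ha)) (fun a ha => h2 (Ideal.mem_map_of_mem _ ha))

/-- points of a hypersurface slice. -/
theorem exists_sliceHom_eq {Y : Scheme.{u}} {V : Y.Opens} (hV : IsAffineOpen V) (f : Γ(Y, V))
    (y : Y) (hy : y ∈ V) (hf : f ∈ (hV.primeIdealOf ⟨y, hy⟩).asIdeal) :
    ∃ y', sliceHom hV f y' = y := by
  have hfle : Ideal.span {f} ≤ (hV.primeIdealOf ⟨y, hy⟩).asIdeal :=
    (Ideal.span_singleton_le_iff_mem _).mpr hf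
  have hcomap : ((hV.primeIdealOf ⟨y, hy⟩).asIdeal.map
      (Ideal.Quotient.mk (Ideal.span {f}))).comap (Ideal.Quotient.mk (Ideal.span {f})) =
      (hV.primeIdealOf ⟨y, hy⟩).asIdeal := by
    rw [Ideal.comap_map_of_surjective _ Ideal.Quotient.mk_surjective, ← RingHom.ker_eq_comap_bot,
      Ideal.mk_ker]
    exact sup_eq_left.mpr hfle
  haveI hprime : ((hV.primeIdealOf ⟨y, hy⟩).asIdeal.map
      (Ideal.Quotient.mk (Ideal.span {f}))).IsPrime :=
    Ideal.map_isPrime_of_surjective Ideal.Quotient.mk_surjective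
      (by rw [Ideal.mk_ker]; exact hfle)
  let y' : Spec (CommRingCat.of (Γ(Y, V) ⧸ Ideal.span {f})) :=
    ⟨(hV.primeIdealOf ⟨y, hy⟩).asIdeal.map (Ideal.Quotient.mk (Ideal.span {f})), hprime⟩
  refine ⟨y', ?_⟩
  unfold sliceHom
  rw [Scheme.Hom.comp_apply]
  have h1 : Spec.map (CommRingCat.ofHom (Ideal.Quotient.mk (Ideal.span {f}))) y' =
      hV.primeIdealOf ⟨y, hy⟩ := PrimeSpectrum.ext hcomap
  rw [h1]
  exact hV.fromSpec_primeIdealOf ⟨y, hy⟩

/-- quotient by the preimage of an ideal under a surjection. -/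
theorem ringKrullDim_quotient_comap_of_surjective {A B : Type u} [CommRing A] [CommRing B]
    (π : A →+* B) (hπ : Function.Surjective π) (𝔓 : Ideal B) :
    ringKrullDim (A ⧸ 𝔓.comap π) = ringKrullDim (B ⧸ 𝔓) := by
  let g : A →+* B ⧸ 𝔓 := (Ideal.Quotient.mk 𝔓).comp π
  have hg : Function.Surjective g := Ideal.Quotient.mk_surjective.comp hπ
  have hker : RingHom.ker g = 𝔓.comap π := by
    ext c
    rw [RingHom.mem_ker, Ideal.mem_comap]
    exact Ideal.Quotient.eq_zero_iff_mem
  have e := RingHom.quotientKerEquivOfSurjective hg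
  exact ringKrullDim_eq_of_ringEquiv ((Ideal.quotEquivOfEq hker.symm).trans e)

set_option maxHeartbeats 1600000 in
/-- **the inductive step**: as long as the fibre of `h` at `p` is bigger than the stabilizer, one can
slice once more. -/
theorem exists_slice_step [LocallyOfFinitePresentation G.s] [LocallyOfFinitePresentation G.t]
    (u : G.U) (hu : LocallyOfFiniteType (G.U.fromSpecResidueField u))
    {Z : Scheme.{u}} [IsAffine Z] (g : Z ⟶ G.U) [IsImmersion g] [LocallyOfFinitePresentation g]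
    (p : ↑(pullback g G.t)) (hz : g (pullback.fst g G.t p) = u)
    (hp2 : pullback.snd g G.t p = G.e u)
    (hcm : Grpd.IsCMAt (pullback.snd g G.t ≫ G.s) p)
    (hd : topologicalKrullDim ↥(G.stabilizerToU.fiber u) <
      FlatMor.fibreDimAt (pullback.snd g G.t ≫ G.s) p) :
    ∃ (Z' : Scheme.{u}) (_ : IsAffine Z') (g' : Z' ⟶ G.U) (p' : ↑(pullback g' G.t)),
      IsImmersion g' ∧ LocallyOfFinitePresentation g' ∧ g' (pullback.fst g' G.t p') = u ∧
      pullback.snd g' G.t p' = G.e u ∧ Grpd.IsCMAt (pullback.snd g' G.t ≫ G.s) p' ∧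
      FlatMor.fibreDimAt (pullback.snd g' G.t ≫ G.s) p' + 1 =
        FlatMor.fibreDimAt (pullback.snd g G.t ≫ G.s) p := by
  haveI : IsImmersion (pullback.snd g G.t) :=
    MorphismProperty.pullback_snd (P := @IsImmersion) g G.t inferInstance
  haveI : LocallyOfFinitePresentation (pullback.snd g G.t) :=
    MorphismProperty.pullback_snd (P := @LocallyOfFinitePresentation) g G.t inferInstance
  haveI : LocallyOfFinitePresentation (pullback.snd g G.t ≫ G.s) := inferInstance
  have hZ : IsAffineOpen (⊤ : Z.Opens) := isAffineOpen_top Z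
  have hpi : (pullback.snd g G.t).stalkMap p |>.hom |> Function.Surjective :=
    (pullback.snd g G.t).stalkMap_surjective p
  -- residue fields
  have hresS : ∀ r : G.R, r = G.e u → Function.Surjective (G.s.residueFieldMap r).hom := by
    intro r hr
    subst hr
    exact residueFieldMap_surjective_of_section G.e G.s G.e_s u
  have hres : Function.Surjective ((pullback.snd g G.t ≫ G.s).residueFieldMap p).hom := by
    rw [Scheme.residueFieldMap_comp]
    exact (residueFieldMap_surjective_of_stalkMap_surjective (pullback.snd g G.t) p hpi).comp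
      (hresS _ hp2)
  have hcomp : ((pullback.snd g G.t ≫ G.s).stalkMap p).hom =
      ((pullback.snd g G.t).stalkMap p).hom.comp (G.s.stalkMap (pullback.snd g G.t p)).hom := by
    rw [Scheme.Hom.stalkMap_comp]
    rfl
  have hJ := map_maximalIdeal_stalkMap_eq (pullback.fst g G.t) hZ p (Set.mem_univ _)
  have hcmO := hcm.2
  rcases exists_regular_or_prime'
    ((maximalIdeal (G.U.presheaf.stalk ((pullback.snd g G.t ≫ G.s) p))).map
      ((pullback.snd g G.t ≫ G.s).stalkMap p).hom)
    (hZ.primeIdealOf ⟨pullback.fst g G.t p, Set.mem_univ _⟩).asIdeal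
    (((pullback g G.t).presheaf.germ (pullback.fst g G.t ⁻¹ᵁ ⊤) p (Set.mem_univ _)).hom.comp
      ((pullback.fst g G.t).app ⊤).hom) hcmO with
    ⟨f, hfq, hreg⟩ | ⟨𝔓, h𝔓, h1, h2, hdim⟩
  swap
  · exfalso
    haveI := h𝔓
    haveI : (𝔓.comap ((pullback.snd g G.t).stalkMap p).hom).IsPrime := Ideal.comap_isPrime _ _
    have hle := ringKrullDim_quotient_le' G u hu (pullback.snd g G.t p) hp2
      (𝔓.comap ((pullback.snd g G.t).stalkMap p).hom) ?_ ?_
    · rw [ringKrullDim_quotient_comap_of_surjective _ hpi, hdim,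
        ← fibreDimAt_eq_ringKrullDim (pullback.snd g G.t ≫ G.s) p hres] at hle
      exact absurd hle (not_le.mpr hd)
    · rw [← Ideal.map_le_iff_le_comap, Ideal.map_map, ← hcomp]
      exact h1
    · rw [← Ideal.map_le_iff_le_comap, Ideal.map_map]
      have hcomp2 : ((pullback.snd g G.t ≫ G.t).stalkMap p).hom =
          ((pullback.snd g G.t).stalkMap p).hom.comp
            (G.t.stalkMap (pullback.snd g G.t p)).hom := by
        rw [Scheme.Hom.stalkMap_comp]
        rfl
      have hcomp3 : ((pullback.fst g G.t ≫ g).stalkMap p).hom =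
          ((pullback.fst g G.t).stalkMap p).hom.comp
            (g.stalkMap (pullback.fst g G.t p)).hom := by
        rw [Scheme.Hom.stalkMap_comp]
        rfl
      have hcongr := Groth.Agent.Lib.Helper14.CMAffineMap.map_maximalIdeal_stalkMap_congr
        (pullback.condition (f := g) (g := G.t)) p
      rw [← hcomp2]
      change Ideal.map ((pullback.snd g G.t ≫ G.t).stalkMap p).hom
        (maximalIdeal (G.U.presheaf.stalk ((pullback.snd g G.t ≫ G.t) p))) ≤ 𝔓
      rw [← hcongr, hcomp3]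
      change Ideal.map (((pullback.fst g G.t).stalkMap p).hom.comp
        (g.stalkMap (pullback.fst g G.t p)).hom)
        (maximalIdeal (G.U.presheaf.stalk (g (pullback.fst g G.t p)))) ≤ 𝔓
      rw [← Ideal.map_map]
      have hloc : IsLocalHom (g.stalkMap (pullback.fst g G.t p)).hom := inferInstance
      have hle : (maximalIdeal (G.U.presheaf.stalk (g (pullback.fst g G.t p)))).map
          (g.stalkMap (pullback.fst g G.t p)).hom ≤
          maximalIdeal (Z.presheaf.stalk (pullback.fst g G.t p)) :=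
        ((IsLocalRing.local_hom_TFAE (g.stalkMap (pullback.fst g G.t p)).hom).out 0 2).mp hloc
      refine (Ideal.map_mono hle).trans ?_
      rw [hJ]
      exact h2
  -- the regular case: slice
  obtain ⟨z', hz'⟩ := exists_sliceHom_eq hZ f (pullback.fst g G.t p) (Set.mem_univ _) hfq
  obtain ⟨p', hp1', hp2'⟩ := Scheme.Pullback.exists_preimage_pullback
    (f := sliceHom hZ f) (g := pullback.fst g G.t) z' p hz'
  have hkey : ∀ (q : ↑(pullback g G.t)) (hq : q = p) (htq : q ∈ pullback.fst g G.t ⁻¹ᵁ ⊤),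
      Grpd.IsCMAt (pullback.snd g G.t ≫ G.s) q ∧
      (pullback g G.t).presheaf.germ (pullback.fst g G.t ⁻¹ᵁ ⊤) q htq
        ((pullback.fst g G.t).app ⊤ f) ∈ maximalIdeal ((pullback g G.t).presheaf.stalk q) ∧
      (∀ w : (pullback g G.t).presheaf.stalk q,
        (pullback g G.t).presheaf.germ (pullback.fst g G.t ⁻¹ᵁ ⊤) q htq
          ((pullback.fst g G.t).app ⊤ f) * w ∈
        (maximalIdeal (G.U.presheaf.stalk ((pullback.snd g G.t ≫ G.s) q))).map
          ((pullback.snd g G.t ≫ G.s).stalkMap q).hom →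
        w ∈ (maximalIdeal (G.U.presheaf.stalk ((pullback.snd g G.t ≫ G.s) q))).map
          ((pullback.snd g G.t ≫ G.s).stalkMap q).hom) ∧
      Function.Surjective ((pullback.snd g G.t ≫ G.s).residueFieldMap q).hom := by
    intro q hq
    subst hq
    intro htq
    refine ⟨hcm, ?_, hreg, hres⟩
    have hloc : IsLocalHom ((pullback.fst g G.t).stalkMap q).hom := inferInstance
    have hle : (maximalIdeal (Z.presheaf.stalk (pullback.fst g G.t q))).map
        ((pullback.fst g G.t).stalkMap q).hom ≤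
        maximalIdeal ((pullback g G.t).presheaf.stalk q) :=
      ((IsLocalRing.local_hom_TFAE ((pullback.fst g G.t).stalkMap q).hom).out 0 2).mp hloc
    apply hle
    rw [hJ]
    exact Ideal.mem_map_of_mem _ hfq
  obtain ⟨hcm', hbm', hreg', hres'⟩ := hkey _ hp2' (t_snd_mem p')
  obtain ⟨hcm'', hdim''⟩ := isCMAt_slice' (pullback.snd g G.t ≫ G.s) (pullback.fst g G.t) hZ f p'
    hcm' hbm' hreg'
  haveI : LocallyOfFiniteType (pullback.snd (sliceHom hZ f) (pullback.fst g G.t)) :=
    MorphismProperty.pullback_snd _ _ (inferInstance : LocallyOfFiniteType (sliceHom hZ f))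
  haveI : LocallyOfFiniteType (pullback.snd (sliceHom hZ f) (pullback.fst g G.t) ≫
      (pullback.snd g G.t ≫ G.s)) := inferInstance
  have hres'' : Function.Surjective
      ((pullback.snd (sliceHom hZ f) (pullback.fst g G.t) ≫
        (pullback.snd g G.t ≫ G.s)).residueFieldMap p').hom := by
    rw [Scheme.residueFieldMap_comp]
    have h1 := residueFieldMap_surjective_of_stalkMap_surjective
      (pullback.snd (sliceHom hZ f) (pullback.fst g G.t)) p' (stalkMap_snd_surjective p')
    exact h1.comp hres'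
  have hfd : FlatMor.fibreDimAt (pullback.snd (sliceHom hZ f) (pullback.fst g G.t) ≫
      (pullback.snd g G.t ≫ G.s)) p' + 1 =
      FlatMor.fibreDimAt (pullback.snd g G.t ≫ G.s) p := by
    rw [fibreDimAt_eq_ringKrullDim _ p' hres'', hdim'',
      ← fibreDimAt_eq_ringKrullDim (pullback.snd g G.t ≫ G.s) _ hres', hp2']
  -- reparametrize
  let e := pullbackRightPullbackFstIso g G.t (sliceHom hZ f)
  have hk : pullback.snd (sliceHom hZ f ≫ g) G.t ≫ G.s =
      e.inv ≫ (pullback.snd (sliceHom hZ f) (pullback.fst g G.t) ≫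
        (pullback.snd g G.t ≫ G.s)) := by
    rw [← pullbackRightPullbackFstIso_inv_snd_snd_assoc]
  have htr := transport_openImmersion e.inv
    (pullback.snd (sliceHom hZ f) (pullback.fst g G.t) ≫ (pullback.snd g G.t ≫ G.s))
    (pullback.snd (sliceHom hZ f ≫ g) G.t ≫ G.s) hk (e.hom p')
  have hinv : e.inv (e.hom p') = p' := by
    rw [← Scheme.Hom.comp_apply, e.hom_inv_id]
    rfl
  rw [hinv] at htr
  refine ⟨_, inferInstance, sliceHom hZ f ≫ g, e.hom p', inferInstance, inferInstance, ?_, ?_,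
    htr.1.mpr hcm'', ?_⟩
  · have he1 : e.hom ≫ pullback.fst (sliceHom hZ f ≫ g) G.t =
        pullback.fst (sliceHom hZ f) (pullback.fst g G.t) :=
      pullbackRightPullbackFstIso_hom_fst _ _ _
    have h1 : pullback.fst (sliceHom hZ f ≫ g) G.t (e.hom p') = z' := by
      rw [← Scheme.Hom.comp_apply, he1, hp1']
    rw [h1, Scheme.Hom.comp_apply, hz', hz]
  · have he2 : e.hom ≫ pullback.snd (sliceHom hZ f ≫ g) G.t =
        pullback.snd (sliceHom hZ f) (pullback.fst g G.t) ≫ pullback.snd g G.t :=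
      pullbackRightPullbackFstIso_hom_snd _ _ _
    rw [← Scheme.Hom.comp_apply, he2, Scheme.Hom.comp_apply, hp2', hp2]
  · rw [htr.2, hfd]

end Groth.Agent.Lib.Helper14.MaxSlice
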